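import Mathlib
import Cfsg.Agent.Lib.FW.TorA
import Cfsg.Agent.Lib.FW.TorB1

/-!
FW, package TORB: root groups, their centralisers, and the subgroups of odd order inverted by an
involution.  The proofs are in `TorB0` and `TorB1`.
-/
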